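import Groth.Prelude.Def_NonAbH1
import Mathlib.CategoryTheory.Sites.CoversTop.Basic

/-!
# Sheaf torsors: differences, gluing, morphisms determined by sections
-/

set_option autoImplicit false

universe w' w v u

open CategoryTheory Opposite NonAbH1

namespace Groth.Agent.NATorsor

variable {C : Type u} [Category.{v} C] {J : GrothendieckTopology C} {G : Sheaf J GrpCat.{w}}

/-- The sheaf of sets underlying a sheaf of groups, with no universe restriction. -/
theorem grp_isSheaf (G : Sheaf J GrpCat.{w}) :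
    Presieve.IsSheaf J (G.obj ⋙ forget GrpCat.{w}) := by
  intro V S hS x hx
  let E : GrpCat.{w} := GrpCat.of (ULift.{w} (Multiplicative ℤ))
  let one : E := ULift.up (Multiplicative.ofAdd 1)
  have key := G.2 E S hS
  let toHom : ∀ {T : C} (_ : G.obj.obj (op T)), E ⟶ G.obj.obj (op T) := fun {T} a =>
    GrpCat.ofHom ((zpowersHom (G.obj.obj (op T)) a).comp MulEquiv.ulift.toMonoidHom)
  have hext : ∀ {T : C} (f g : E ⟶ G.obj.obj (op T)), f one = g one → f = g := by
    intro T f g h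
    refine GrpCat.hom_ext (MonoidHom.ext fun ⟨n⟩ => ?_)
    have hn : (ULift.up n : E) = one ^ (Multiplicative.toAdd n) := by
      apply ULift.ext
      show n = (Multiplicative.ofAdd (1 : ℤ)) ^ (Multiplicative.toAdd n)
      rw [← ofAdd_zsmul, zsmul_one, Int.cast_id, ofAdd_toAdd]
    change f (ULift.up n) = g (ULift.up n)
    rw [hn, map_zpow, map_zpow, h]
  have hto : ∀ {T : C} (a : G.obj.obj (op T)), toHom a one = a := by
    intro T a; simp [toHom, one, zpowersHom_apply]; exact zpow_one a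
  let y : Presieve.FamilyOfElements (G.obj ⋙ coyoneda.obj (op E)) S.arrows :=
    fun T f hf => toHom (x f hf)
  have hy : y.Compatible := by
    intro Y₁ Y₂ Z g₁ g₂ f₁ f₂ h₁ h₂ comm
    apply hext
    change G.obj.map g₁.op (toHom (x f₁ h₁) one) = G.obj.map g₂.op (toHom (x f₂ h₂) one)
    rw [hto, hto]
    exact hx g₁ g₂ h₁ h₂ comm
  obtain ⟨t, ht, huniq⟩ := key y hy
  let t' : E ⟶ G.obj.obj (op V) := t
  refine ⟨t' one, ?_, ?_⟩
  · intro T f hf
    have : t' ≫ G.obj.map f.op = toHom (x f hf) := ht f hf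
    have h2 := congrArg (fun k : E ⟶ G.obj.obj (op T) => k one) this
    simp only [hto] at h2
    exact h2
  · intro a ha
    have := huniq (toHom a) (fun T f hf => by
      refine hext (toHom a ≫ G.obj.map f.op) (toHom (x f hf)) ?_
      change G.obj.map f.op (toHom a one) = _
      rw [hto, hto]
      exact ha f hf)
    exact ((congrArg (fun k : E ⟶ G.obj.obj (op V) => k one) this).symm.trans (hto a)).symm

/-- Sections of a sheaf of groups are equal as soon as they are equal on a covering sieve. -/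
theorem grp_ext (G : Sheaf J GrpCat.{w}) {V : C} {S : Sieve V} (hS : S ∈ J V)
    {a b : G.obj.obj (op V)}
    (h : ∀ ⦃T : C⦄ (f : T ⟶ V), S f → G.obj.map f.op a = G.obj.map f.op b) : a = b :=
  ((grp_isSheaf G) S hS).isSeparatedFor.ext fun T f hf => h f hf

/-- Gluing of sections of a sheaf of groups. -/
theorem grp_glue (G : Sheaf J GrpCat.{w}) {V : C} {S : Sieve V} (hS : S ∈ J V)
    (x : ∀ ⦃T : C⦄ (f : T ⟶ V), S f → G.obj.obj (op T))
    (hx : ∀ ⦃T T' : C⦄ (g : T' ⟶ T) (f : T ⟶ V) (hf : S f),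
      G.obj.map g.op (x f hf) = x (g ≫ f) (S.downward_closed hf g)) :
    ∃ a : G.obj.obj (op V), ∀ ⦃T : C⦄ (f : T ⟶ V) (hf : S f), G.obj.map f.op a = x f hf := by
  let y : Presieve.FamilyOfElements (G.obj ⋙ forget GrpCat.{w}) S.arrows := fun T f hf => x f hf
  obtain ⟨a, ha, -⟩ := grp_isSheaf G S hS y (by
    intro Y₁ Y₂ Z g₁ g₂ f₁ f₂ h₁ h₂ comm
    change G.obj.map g₁.op (x f₁ h₁) = G.obj.map g₂.op (x f₂ h₂)
    rw [hx, hx]
    congr 1)
  exact ⟨a, ha⟩

section GSheaf

variable (P : GSheaf G)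

theorem gsheaf_isSheaf : Presieve.IsSheaf J P.P.obj := (isSheaf_iff_isSheaf_of_type _ _).1 P.P.2

theorem sec_ext {V : C} {S : Sieve V} (hS : S ∈ J V) {a b : P.P.obj.obj (op V)}
    (h : ∀ ⦃T : C⦄ (f : T ⟶ V), S f → P.P.obj.map f.op a = P.P.obj.map f.op b) : a = b :=
  ((gsheaf_isSheaf P) S hS).isSeparatedFor.ext fun T f hf => h f hf

theorem sec_glue {V : C} {S : Sieve V} (hS : S ∈ J V)
    (x : ∀ ⦃T : C⦄ (f : T ⟶ V), S f → P.P.obj.obj (op T))
    (hx : ∀ ⦃T T' : C⦄ (g : T' ⟶ T) (f : T ⟶ V) (hf : S f),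
      P.P.obj.map g.op (x f hf) = x (g ≫ f) (S.downward_closed hf g)) :
    ∃! a : P.P.obj.obj (op V), ∀ ⦃T : C⦄ (f : T ⟶ V) (hf : S f), P.P.obj.map f.op a = x f hf :=
  gsheaf_isSheaf P S hS (x := (show Presieve.FamilyOfElements P.P.obj S.arrows from fun T f hf => x f hf)) (by
    intro Y₁ Y₂ Z g₁ g₂ f₁ f₂ h₁ h₂ comm
    change P.P.obj.map g₁.op (x f₁ h₁) = P.P.obj.map g₂.op (x f₂ h₂)
    rw [hx, hx]
    congr 1)

@[simp] theorem map_map {U V W : C} (f : V ⟶ U) (g : W ⟶ V) (p : P.P.obj.obj (op U)) :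
    P.P.obj.map g.op (P.P.obj.map f.op p) = P.P.obj.map (g ≫ f).op p := by
  simp [op_comp]

@[simp] theorem grp_map_map {U V W : C} (f : V ⟶ U) (g : W ⟶ V) (a : G.obj.obj (op U)) :
    G.obj.map g.op (G.obj.map f.op a) = G.obj.map (g ≫ f).op a := by
  simp [op_comp]

theorem inv_smul_smul {U : Cᵒᵖ} (g : G.obj.obj U) (p : P.P.obj.obj U) :
    P.smul g⁻¹ (P.smul g p) = p := by
  rw [← P.mul_smul, inv_mul_cancel, P.one_smul]

theorem smul_inv_smul {U : Cᵒᵖ} (g : G.obj.obj U) (p : P.P.obj.obj U) :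
    P.smul g (P.smul g⁻¹ p) = p := by
  rw [← P.mul_smul, mul_inv_cancel, P.one_smul]

variable {P} (hP : P.IsPseudoTorsor)

/-- The group element carrying `p` to `q`. -/
noncomputable def diff {U : Cᵒᵖ} (p q : P.P.obj.obj U) : G.obj.obj U := (hP U p q).choose

theorem diff_smul {U : Cᵒᵖ} (p q : P.P.obj.obj U) : P.smul (diff hP p q) p = q :=
  (hP U p q).choose_spec.1

theorem diff_eq {U : Cᵒᵖ} {p q : P.P.obj.obj U} {g : G.obj.obj U} (h : P.smul g p = q) :
    diff hP p q = g :=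
  ((hP U p q).choose_spec.2 g h).symm

theorem map_diff {U V : Cᵒᵖ} (f : U ⟶ V) (p q : P.P.obj.obj U) :
    G.obj.map f (diff hP p q) = diff hP (P.P.obj.map f p) (P.P.obj.map f q) :=
  (diff_eq hP (by rw [← P.map_smul, diff_smul])).symm

theorem diff_mul_diff {U : Cᵒᵖ} (p q r : P.P.obj.obj U) :
    diff hP q r * diff hP p q = diff hP p r :=
  (diff_eq hP (by rw [P.mul_smul, diff_smul, diff_smul])).symm

@[simp] theorem diff_self {U : Cᵒᵖ} (p : P.P.obj.obj U) : diff hP p p = 1 :=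
  diff_eq hP (P.one_smul p)

theorem diff_symm {U : Cᵒᵖ} (p q : P.P.obj.obj U) : diff hP q p = (diff hP p q)⁻¹ := by
  rw [eq_inv_iff_mul_eq_one, diff_mul_diff, diff_self]

include hP in
theorem smul_left_cancel {U : Cᵒᵖ} {g h : G.obj.obj U} {p : P.P.obj.obj U}
    (e : P.smul g p = P.smul h p) : g = h :=
  (diff_eq hP e).symm.trans (diff_eq hP rfl)

end GSheaf

section Iso

variable {P Q : GSheaf G}

/-- A natural family of equivariant maps as a morphism of `G`-sheaves. -/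
def homMk (f : ∀ U : Cᵒᵖ, P.P.obj.obj U → Q.P.obj.obj U)
    (hnat : ∀ {U V : Cᵒᵖ} (φ : U ⟶ V) (p : P.P.obj.obj U), Q.P.obj.map φ (f U p) = f V (P.P.obj.map φ p))
    (hsmul : ∀ {U : Cᵒᵖ} (g : G.obj.obj U) (p : P.P.obj.obj U), f U (P.smul g p) = Q.smul g (f U p)) :
    P ⟶ Q where
  hom := ⟨{ app := fun U => TypeCat.ofHom (f U)
            naturality := fun U V φ => by ext p; exact (hnat φ p).symm }⟩
  map_smul g p := hsmul g p

/-- A natural bijective family of equivariant maps as an isomorphism of `G`-sheaves. -/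
noncomputable def isoMk (f : ∀ U : Cᵒᵖ, P.P.obj.obj U → Q.P.obj.obj U)
    (hnat : ∀ {U V : Cᵒᵖ} (φ : U ⟶ V) (p : P.P.obj.obj U), Q.P.obj.map φ (f U p) = f V (P.P.obj.map φ p))
    (hsmul : ∀ {U : Cᵒᵖ} (g : G.obj.obj U) (p : P.P.obj.obj U), f U (P.smul g p) = Q.smul g (f U p))
    (hbij : ∀ U, Function.Bijective (f U)) : P ≅ Q where
  hom := homMk f hnat hsmul
  inv := homMk (fun U => (Equiv.ofBijective _ (hbij U)).symm)
    (fun {U V} φ q => (hbij V).1 (by
      rw [← hnat φ, Equiv.ofBijective_apply_symm_apply (f U), Equiv.ofBijective_apply_symm_apply (f V)]))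
    (fun {U} g q => (hbij U).1 (by
      rw [Equiv.ofBijective_apply_symm_apply (f U), hsmul, Equiv.ofBijective_apply_symm_apply (f U)]))
  hom_inv_id := GSheaf.hom_ext (Sheaf.hom_ext (by
    ext U p; exact (Equiv.ofBijective _ (hbij U)).symm_apply_apply p))
  inv_hom_id := GSheaf.hom_ext (Sheaf.hom_ext (by
    ext U q; exact Equiv.ofBijective_apply_symm_apply _ (hbij U) q))

/-- An equivariant morphism of torsors is bijective on sections. -/
theorem bijective_of_hom (hP : P.IsTorsor) (hQ : Q.IsPseudoTorsor) (f : P ⟶ Q) (U : Cᵒᵖ) :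
    Function.Bijective (f.hom.hom.app U) := by
  have hnat : ∀ {U V : Cᵒᵖ} (φ : U ⟶ V) (p : P.P.obj.obj U),
      f.hom.hom.app V (P.P.obj.map φ p) = Q.P.obj.map φ (f.hom.hom.app U p) := by
    intro U V φ p
    exact NatTrans.naturality_apply f.hom.hom φ p
  refine ⟨fun p q e => ?_, fun q => ?_⟩
  · obtain ⟨g, hg, -⟩ := hP.1 U p q
    have : Q.smul g (f.hom.hom.app U p) = Q.smul 1 (f.hom.hom.app U p) := by
      rw [Q.one_smul, ← f.map_smul, hg, e]
    rw [← hg, smul_left_cancel hQ this, P.one_smul]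
  · obtain ⟨S, hS, hne⟩ := hP.2 U.unop
    let a : ∀ ⦃T : C⦄ (φ : T ⟶ U.unop), S φ → P.P.obj.obj (op T) := fun T φ h =>
      P.smul (diff hQ (f.hom.hom.app _ (Classical.choice (hne φ h))) (Q.P.obj.map φ.op q))
        (Classical.choice (hne φ h))
    have ha : ∀ ⦃T : C⦄ (φ : T ⟶ U.unop) (h : S φ),
        f.hom.hom.app _ (a φ h) = Q.P.obj.map φ.op q := by
      intro T φ h; rw [f.map_smul, diff_smul]
    have inj : ∀ {V : Cᵒᵖ} {x y : P.P.obj.obj V}, f.hom.hom.app V x = f.hom.hom.app V y → x = y := by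
      intro V x y e
      obtain ⟨g, hg, -⟩ := hP.1 V x y
      have : Q.smul g (f.hom.hom.app V x) = Q.smul 1 (f.hom.hom.app V x) := by
        rw [Q.one_smul, ← f.map_smul, hg, e]
      rw [← hg, smul_left_cancel hQ this, P.one_smul]
    obtain ⟨p, hp, -⟩ := sec_glue P hS a (fun T T' g φ h => inj (by
      rw [hnat, ha φ h, ha _ (S.downward_closed h g), map_map]))
    refine ⟨p, sec_ext Q hS fun T φ h => ?_⟩
    rw [← hnat, hp φ h, ha φ h]

/-- An equivariant morphism of torsors gives an isomorphism. -/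
noncomputable def isoOfHom (hP : P.IsTorsor) (hQ : Q.IsPseudoTorsor) (f : P ⟶ Q) : P ≅ Q :=
  isoMk (fun U => f.hom.hom.app U)
    (fun φ p => (NatTrans.naturality_apply f.hom.hom φ p).symm)
    (fun g p => f.map_smul g p) (bijective_of_hom hP hQ f)

variable {I : Type w'} {U : I → C}

/-- Two torsor-like sheaves with the same cocycle on a family covering the site: there is an equivariant morphism
carrying the one family of sections to the other. -/
theorem exists_hom_of_cocycle (hU : J.CoversTop U) (hP : P.IsPseudoTorsor)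
    (s : ∀ i, P.P.obj.obj (op (U i))) (t : ∀ i, Q.P.obj.obj (op (U i)))
    (γ : PresheafOfGroups.OneCocycle G.obj U) (hs : P.IsCocycleOf U s γ) (ht : Q.IsCocycleOf U t γ) :
    Nonempty (P ⟶ Q) := by
  let Val : ∀ {V : C} (_ : P.P.obj.obj (op V)) (_ : Q.P.obj.obj (op V)), Prop := fun {V} p q =>
    ∀ ⦃T : C⦄ (φ : T ⟶ V) (i : I) (a : T ⟶ U i),
      Q.P.obj.map φ.op q =
        Q.smul (diff hP (P.P.obj.map a.op (s i)) (P.P.obj.map φ.op p)) (Q.P.obj.map a.op (t i))
  have indep : ∀ {T : C} (p : P.P.obj.obj (op T)) (i j : I) (a : T ⟶ U i) (b : T ⟶ U j),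
      Q.smul (diff hP (P.P.obj.map a.op (s i)) p) (Q.P.obj.map a.op (t i)) =
      Q.smul (diff hP (P.P.obj.map b.op (s j)) p) (Q.P.obj.map b.op (t j)) := by
    intro T p i j a b
    rw [← diff_mul_diff hP (P.P.obj.map b.op (s j)) (P.P.obj.map a.op (s i)) p,
      diff_eq hP (hs i j a b), Q.mul_smul, ht i j a b]
  have ex : ∀ (V : C) (p : P.P.obj.obj (op V)), ∃! q, Val p q := by
    intro V p
    have hS : Sieve.ofObjects U V ∈ J V := hU V
    let x : ∀ ⦃T : C⦄ (φ : T ⟶ V), Sieve.ofObjects U V φ → Q.P.obj.obj (op T) := fun T φ h =>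
      Q.smul (diff hP (P.P.obj.map h.choose_spec.some.op (s h.choose)) (P.P.obj.map φ.op p))
        (Q.P.obj.map h.choose_spec.some.op (t h.choose))
    obtain ⟨q, hq, hu⟩ := sec_glue Q hS x (fun T T' g φ h => by
      simp only [x]
      rw [Q.map_smul, map_diff]
      simp only [map_map]
      exact indep _ _ _ _ _)
    refine ⟨q, fun T φ i a => (hq φ ⟨i, ⟨a⟩⟩).trans (indep _ _ _ _ _), fun q' hq' => hu q' ?_⟩
    intro T φ h
    exact hq' φ _ _
  choose F hF hFu using fun V p => ex V p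
  refine ⟨homMk (fun V p => F V.unop p) (fun {V W} φ p => hFu _ _ _ ?_) (fun {V} g p => (hFu _ _ _ ?_).symm)⟩
  · intro T ψ i a
    obtain ⟨φ, rfl⟩ : ∃ φ', φ = Quiver.Hom.op φ' := ⟨φ.unop, rfl⟩
    rw [map_map, map_map]
    exact hF _ p _ i a
  · intro T ψ i a
    rw [P.map_smul, Q.map_smul, hF _ p ψ i a, ← Q.mul_smul]
    congr 1
    exact (diff_eq hP (by rw [P.mul_smul, diff_smul])).symm

end Iso

end Groth.Agent.NATorsor
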