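import Groth.Agent.NATorsor.Basic

/-!
# The boundary of a section of a quotient sheaf
-/

set_option autoImplicit false

universe w v u

open CategoryTheory Opposite NonAbH1 Groth.Agent.NATorsor

namespace Groth.Agent.NATorsor.Fibre

variable {C : Type u} [Category.{v} C] {J : GrothendieckTopology C}
  [J.HasSheafCompose (forget GrpCat.{w})] {F G : Sheaf J GrpCat.{w}} {u : F ⟶ G}
  {Q : GSheaf G} {π : GSheaf.trivial G ⟶ Q}

/-- The value of `π` on a section of `G`. -/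
def pr (π : GSheaf.trivial G ⟶ Q) {U : Cᵒᵖ} (g : G.obj.obj U) : Q.P.obj.obj U :=
  π.hom.hom.app U (GSheaf.ofGrp g)

theorem pr_nat {U V : Cᵒᵖ} (f : U ⟶ V) (g : G.obj.obj U) :
    Q.P.obj.map f (pr π g) = pr π (G.obj.map f g) :=
  (NatTrans.naturality_apply π.hom.hom f (GSheaf.ofGrp g)).symm

theorem pr_mul {U : Cᵒᵖ} (g h : G.obj.obj U) : pr π (g * h) = Q.smul g (pr π h) :=
  π.map_smul g (GSheaf.ofGrp h)

theorem u_nat (u : F ⟶ G) {U V : Cᵒᵖ} (f : U ⟶ V) (a : F.obj.obj U) :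
    G.obj.map f (u.hom.app U a) = u.hom.app V (F.obj.map f a) :=
  (NatTrans.naturality_apply u.hom f a).symm

/-- The section `c` commutes with restriction. -/
theorem sec_nat (c : Q.P.obj.sections) {U V : Cᵒᵖ} (f : U ⟶ V) :
    Q.P.obj.map f (c.1 U) = c.1 V := c.2 f

variable (u π) in
/-- The presheaf of local liftings of a section. -/
def fibre (c : Q.P.obj.sections) : Cᵒᵖ ⥤ Type w where
  obj U := {g : G.obj.obj U // pr π g = c.1 U}
  map {U V} f := TypeCat.ofHom fun g => ⟨G.obj.map f g.1, by rw [← pr_nat, g.2, sec_nat]⟩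
  map_id U := ConcreteCategory.hom_ext _ _ fun g => Subtype.ext (by
    show G.obj.map (𝟙 U) g.1 = g.1
    simp)
  map_comp {U V W} f g := ConcreteCategory.hom_ext _ _ fun a => Subtype.ext (by
    show G.obj.map (f ≫ g) a.1 = G.obj.map g (G.obj.map f a.1)
    simp)

theorem fibre_isSheaf (c : Q.P.obj.sections) : Presieve.IsSheaf J (fibre π c) := by
  intro V S hS x hx
  obtain ⟨a, ha⟩ := grp_glue G hS (fun T φ h => (x φ h).1) (fun T T' g φ h => by
    have := hx g (𝟙 T') h (S.downward_closed h g) (Category.id_comp _).symm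
    have h2 : G.obj.map g.op (x φ h).1 = G.obj.map (𝟙 T').op (x (g ≫ φ) _).1 := congrArg Subtype.val this
    simpa using h2)
  refine ⟨⟨a, sec_ext Q hS fun T φ h => by rw [pr_nat, ha φ h, (x φ h).2, sec_nat]⟩,
    fun T φ h => Subtype.ext (ha φ h), fun b hb => Subtype.ext (grp_ext G hS fun T φ h => ?_)⟩
  rw [ha φ h]
  exact congrArg Subtype.val (hb φ h)

theorem pr_mul_u (hq : GSheaf.IsQuotientBy u π) {U : Cᵒᵖ} (g : G.obj.obj U) (a : F.obj.obj U) :
    pr π (g * u.hom.app U a) = pr π g :=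
  ((hq.1 U g _).2 ⟨a, rfl⟩).symm

variable (u π) in
/-- The sheaf of local liftings of a section with its action. -/
def fibreGSheaf (hq : GSheaf.IsQuotientBy u π) (c : Q.P.obj.sections) : GSheaf F where
  P := ⟨fibre π c, (isSheaf_iff_isSheaf_of_type _ _).2 (fibre_isSheaf c)⟩
  smul {U} a g := ⟨g.1 * (u.hom.app U a)⁻¹, by rw [← map_inv, pr_mul_u hq, g.2]⟩
  one_smul p := Subtype.ext (by simp)
  mul_smul {U} g h p := Subtype.ext (by simp [mul_assoc])
  map_smul {U V} f g p := Subtype.ext (by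
    show G.obj.map f (p.1 * (u.hom.app U g)⁻¹) = G.obj.map f p.1 * (u.hom.app V (F.obj.map f g))⁻¹
    rw [map_mul, map_inv, u_nat])

theorem fibreGSheaf_isFibreOver (hq : GSheaf.IsQuotientBy u π) (c : Q.P.obj.sections) :
    GSheaf.IsFibreOver u π c (fibreGSheaf u π hq c) :=
  ⟨⟨{ app := fun U => TypeCat.ofHom fun g => GSheaf.ofGrp g.1
      naturality := fun U V f => ConcreteCategory.hom_ext _ _ fun g => rfl }⟩,
    fun U g g' h => Subtype.ext h,
    fun U g => ⟨fun ⟨t, ht⟩ => ht ▸ t.2, fun h => ⟨⟨g, h⟩, rfl⟩⟩,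
    fun U f t => rfl⟩

variable {c : Q.P.obj.sections} {T : GSheaf F}

theorem iota_nat (ι : T.P ⟶ GSheaf.uSh G) {U V : Cᵒᵖ} (f : U ⟶ V) (t : T.P.obj.obj U) :
    G.obj.map f (GSheaf.toGrp (ι.hom.app U t)) = GSheaf.toGrp (ι.hom.app V (T.P.obj.map f t)) :=
  (NatTrans.naturality_apply ι.hom f t).symm

theorem isTorsor (hu : ∀ U, Function.Injective (u.hom.app U)) (hq : GSheaf.IsQuotientBy u π)
    (h : GSheaf.IsFibreOver u π c T) : T.IsTorsor := by
  obtain ⟨ι, hi, him, he⟩ := h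
  refine ⟨fun U p q => ?_, fun U => ?_⟩
  · obtain ⟨a, ha⟩ := (hq.1 U (GSheaf.toGrp (ι.hom.app U p)) (GSheaf.toGrp (ι.hom.app U q))).1
      (((him U _).1 ⟨p, rfl⟩).trans ((him U _).1 ⟨q, rfl⟩).symm)
    refine ⟨a⁻¹, hi U ?_, fun b hb => ?_⟩
    · have := he U a⁻¹ p
      rw [map_inv, inv_inv, ← ha] at this
      exact this
    · have h2 := he U b p
      rw [hb, ha] at h2
      have h3 := mul_left_cancel h2
      rw [← map_inv] at h3
      rw [hu U h3, inv_inv]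
  · obtain ⟨S, hS, hl⟩ := hq.2 U (c.1 (op U))
    refine ⟨S, hS, fun V a ha => ?_⟩
    obtain ⟨g, hg⟩ := hl a ha
    obtain ⟨t, -⟩ := (him (op V) g).2 (hg.trans (sec_nat c a.op))
    exact ⟨t⟩

/-- Two sheaves of liftings, of `c` and of the translate of `c` by a global section `g`, are isomorphic. -/
theorem iso_of_smul_eq {c' : Q.P.obj.sections} {T' : GSheaf F} (hT : GSheaf.IsFibreOver u π c T)
    (hT' : GSheaf.IsFibreOver u π c' T') (g : ∀ U, G.obj.obj U)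
    (hg : ∀ {U V : Cᵒᵖ} (f : U ⟶ V), G.obj.map f (g U) = g V)
    (hc : ∀ U, Q.smul (g U) (c.1 U) = c'.1 U) : Nonempty (T ≅ T') := by
  obtain ⟨ι, hi, him, he⟩ := hT
  obtain ⟨ι', hi', him', he'⟩ := hT'
  have key : ∀ (U : Cᵒᵖ) (t : T.P.obj.obj U),
      ∃ t', GSheaf.toGrp (ι'.hom.app U t') = g U * GSheaf.toGrp (ι.hom.app U t) := fun U t =>
    (him' U _).2 (by
      show pr π _ = _
      rw [pr_mul, show pr π _ = c.1 U from (him U _).1 ⟨t, rfl⟩, hc])
  choose e hE using key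
  refine ⟨isoMk e (fun {U V} f t => hi' V ?_) (fun {U} a t => hi' U ?_) fun U => ⟨fun t t' h => hi U ?_, fun t' => ?_⟩⟩
  · show GSheaf.toGrp _ = GSheaf.toGrp _
    rw [← iota_nat ι', hE, hE, map_mul, hg, iota_nat ι]
  · show GSheaf.toGrp _ = GSheaf.toGrp _
    rw [hE, he', hE, he, mul_assoc]
  · have h2 := congrArg (fun x => GSheaf.toGrp (ι'.hom.app U x)) h
    simp only [hE] at h2
    show GSheaf.toGrp _ = GSheaf.toGrp _
    exact mul_left_cancel h2
  · obtain ⟨t, ht⟩ := (him U ((g U)⁻¹ * GSheaf.toGrp (ι'.hom.app U t'))).2 (by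
      show pr π _ = _
      rw [pr_mul, show pr π _ = c'.1 U from (him' U _).1 ⟨t', rfl⟩, ← hc, ← Q.mul_smul, inv_mul_cancel,
        Q.one_smul])
    refine ⟨t, hi' U ?_⟩
    show GSheaf.toGrp _ = GSheaf.toGrp _
    rw [hE, ht, mul_inv_cancel_left]

theorem iso_of_isFibreOver {T' : GSheaf F} (hT : GSheaf.IsFibreOver u π c T)
    (hT' : GSheaf.IsFibreOver u π c T') : Nonempty (T ≅ T') :=
  iso_of_smul_eq hT hT' (fun _ => 1) (fun f => map_one (G.obj.map f).hom) fun U => Q.one_smul _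

/-- Isomorphic sheaves of liftings come from sections differing by a global section of `G`. -/
theorem exists_smul_eq {c' : Q.P.obj.sections} {T' : GSheaf F} (hu : ∀ U, Function.Injective (u.hom.app U))
    (hq : GSheaf.IsQuotientBy u π) (hT : GSheaf.IsFibreOver u π c T) (hT' : GSheaf.IsFibreOver u π c' T')
    (e : T ≅ T') :
    ∃ g : (GSheaf.uSh G).obj.sections, ∀ U, Q.smul (GSheaf.toGrp (g.1 U)) (c.1 U) = c'.1 U := by
  have hTt := isTorsor hu hq hT
  obtain ⟨ι, hi, him, he⟩ := hT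
  obtain ⟨ι', hi', him', he'⟩ := hT'
  let val : ∀ {V : Cᵒᵖ}, T.P.obj.obj V → G.obj.obj V := fun {V} t =>
    GSheaf.toGrp (ι'.hom.app V (e.hom.hom.hom.app V t)) * (GSheaf.toGrp (ι.hom.app V t))⁻¹
  have indep : ∀ {V : Cᵒᵖ} (t t' : T.P.obj.obj V), val t = val t' := by
    intro V t t'
    obtain ⟨a, rfl, -⟩ := hTt.1 V t t'
    simp only [val, e.hom.map_smul, he, he', mul_inv_rev, inv_inv, mul_assoc, inv_mul_cancel_left]
  have valnat : ∀ {V W : Cᵒᵖ} (f : V ⟶ W) (t : T.P.obj.obj V),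
      G.obj.map f (val t) = val (T.P.obj.map f t) := by
    intro V W f t
    simp only [val, map_mul, map_inv, iota_nat ι, iota_nat ι']
    rw [← NatTrans.naturality_apply e.hom.hom.hom f t]
  have key : ∀ U : Cᵒᵖ, ∃ g : G.obj.obj U, ∀ {V : C} (φ : V ⟶ U.unop) (t : T.P.obj.obj (op V)),
      G.obj.map φ.op g = val t := by
    intro U
    obtain ⟨S, hS, hne⟩ := hTt.2 U.unop
    obtain ⟨g, hg⟩ := grp_glue G hS (fun V φ h => val (Classical.choice (hne φ h)))
      (fun V W ψ φ h => by rw [valnat]; exact indep _ _)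
    refine ⟨g, fun {V} φ t => grp_ext G (J.pullback_stable φ hS) fun W ψ h => ?_⟩
    rw [grp_map_map, valnat]
    exact (hg (ψ ≫ φ) h).trans (indep _ _)
  choose g hg using key
  have gnat : ∀ {U V : Cᵒᵖ} (f : U ⟶ V), G.obj.map f (g U) = g V := by
    intro U V f
    obtain ⟨S, hS, hne⟩ := hTt.2 V.unop
    refine grp_ext G hS fun W ψ h => ?_
    obtain ⟨t⟩ := hne ψ h
    rw [show f = f.unop.op from rfl, grp_map_map, hg U _ t, hg V ψ t]
  refine ⟨⟨fun U => GSheaf.ofGrp (g U), fun f => gnat f⟩, fun U => ?_⟩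
  obtain ⟨S, hS, hne⟩ := hTt.2 U.unop
  refine sec_ext Q hS fun W ψ h => ?_
  obtain ⟨t⟩ := hne ψ h
  rw [Q.map_smul, sec_nat, sec_nat]
  show Q.smul (G.obj.map ψ.op (g U)) (c.1 (op W)) = c'.1 (op W)
  rw [hg U ψ t, ← show pr π _ = c.1 (op W) from (him (op W) _).1 ⟨t, rfl⟩, ← pr_mul, inv_mul_cancel_right]
  exact (him' (op W) _).1 ⟨_, rfl⟩

/-- A torsor whose extension to `G` is trivial is a sheaf of liftings. -/
theorem exists_section_of_pushforward (hu : ∀ U, Function.Injective (u.hom.app U))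
    (hq : GSheaf.IsQuotientBy u π) (T : Torsor F)
    (h : GSheaf.IsPushforwardAlong u T.toGSheaf (GSheaf.trivial G)) :
    ∃ c, GSheaf.IsFibreOver u π c T.toGSheaf := by
  obtain ⟨f, hf⟩ := h
  let ι : ∀ U : Cᵒᵖ, T.P.obj.obj U → G.obj.obj U := fun U t => (GSheaf.toGrp (f.hom.app U t))⁻¹
  have ιsmul : ∀ {U : Cᵒᵖ} (a : F.obj.obj U) (t : T.P.obj.obj U),
      ι U (T.smul a t) = ι U t * (u.hom.app U a)⁻¹ := fun {U} a t => by
    show (GSheaf.toGrp (f.hom.app U (T.smul a t)))⁻¹ = _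
    rw [hf]
    exact mul_inv_rev _ _
  have ιnat : ∀ {U V : Cᵒᵖ} (φ : U ⟶ V) (t : T.P.obj.obj U),
      G.obj.map φ (ι U t) = ι V (T.P.obj.map φ t) := fun φ t => by
    simp only [ι, map_inv]
    exact congrArg (·⁻¹) (iota_nat f φ t)
  have ιinj : ∀ U, Function.Injective (ι U) := fun U t t' e => by
    obtain ⟨a, rfl, -⟩ := T.isTorsor.1 U t t'
    rw [ιsmul, ← map_inv, left_eq_mul] at e
    have : a⁻¹ = 1 := hu U (e.trans (map_one (u.hom.app U).hom).symm)
    rw [inv_eq_one.1 this, T.one_smul]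
  have indep : ∀ {U : Cᵒᵖ} (t t' : T.P.obj.obj U), pr π (ι U t) = pr π (ι U t') := fun {U} t t' => by
    obtain ⟨a, rfl, -⟩ := T.isTorsor.1 U t t'
    rw [ιsmul, ← map_inv, pr_mul_u hq]
  have key : ∀ U : Cᵒᵖ, ∃ q : Q.P.obj.obj U, ∀ {V : C} (φ : V ⟶ U.unop) (t : T.P.obj.obj (op V)),
      Q.P.obj.map φ.op q = pr π (ι _ t) := by
    intro U
    obtain ⟨S, hS, hne⟩ := T.isTorsor.2 U.unop
    obtain ⟨q, hq', -⟩ := sec_glue Q hS (fun V φ h => pr π (ι _ (Classical.choice (hne φ h))))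
      (fun V W ψ φ h => by rw [pr_nat, ιnat]; exact indep _ _)
    refine ⟨q, fun {V} φ t => sec_ext Q (J.pullback_stable φ hS) fun W ψ h => ?_⟩
    rw [map_map, pr_nat, ιnat]
    exact (hq' (ψ ≫ φ) h).trans (indep _ _)
  choose c hc using key
  have cnat : ∀ {U V : Cᵒᵖ} (φ : U ⟶ V), Q.P.obj.map φ (c U) = c V := by
    intro U V φ
    obtain ⟨S, hS, hne⟩ := T.isTorsor.2 V.unop
    refine sec_ext Q hS fun W ψ h => ?_
    obtain ⟨t⟩ := hne ψ h
    rw [show φ = φ.unop.op from rfl, map_map, hc U _ t, hc V ψ t]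
  refine ⟨⟨c, fun φ => cnat φ⟩,
    ⟨{ app := fun U => TypeCat.ofHom fun t => GSheaf.ofGrp (ι U t)
       naturality := fun U V φ => ConcreteCategory.hom_ext _ _ fun t => (ιnat φ t).symm }⟩,
    fun U => ιinj U, fun U g => ⟨?_, fun hgc => ?_⟩, fun U a t => ιsmul a t⟩
  · rintro ⟨t, rfl⟩
    have := hc U (𝟙 U.unop) t
    simp at this
    exact this.symm
  · obtain ⟨S, hS, hne⟩ := T.isTorsor.2 U.unop
    have loc : ∀ {V : C} (φ : V ⟶ U.unop) (_ : S φ), ∃ t, ι (op V) t = G.obj.map φ.op g := fun {V} φ h => by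
      obtain ⟨t⟩ := hne φ h
      have h1 : pr π (ι _ t) = pr π (G.obj.map φ.op g) := by
        rw [← hc U φ t, ← pr_nat]
        exact congrArg _ hgc.symm
      obtain ⟨a, ha⟩ := (hq.1 _ _ _).1 h1
      exact ⟨T.smul a⁻¹ t, by rw [ιsmul, map_inv, inv_inv, ha]⟩
    choose t ht using fun V => @loc V
    obtain ⟨t₀, ht₀, -⟩ := sec_glue T.toGSheaf hS (fun V φ h => t V φ h) (fun V W ψ φ h => ιinj _ (by
      rw [← ιnat, ht, ht, grp_map_map]))
    refine ⟨t₀, grp_ext G hS fun V φ h => ?_⟩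
    show G.obj.map φ.op (ι U t₀) = _
    rw [ιnat, ht₀ φ h, ht]

theorem pushforward_of_fibre {T : GSheaf F} (h : GSheaf.IsFibreOver u π c T) :
    GSheaf.IsPushforwardAlong u T (GSheaf.trivial G) := by
  obtain ⟨ι, -, -, he⟩ := h
  refine ⟨⟨{ app := fun U => TypeCat.ofHom fun t => GSheaf.ofGrp (GSheaf.toGrp (ι.hom.app U t))⁻¹
             naturality := fun U V f => ConcreteCategory.hom_ext _ _ fun t => by
               show (GSheaf.toGrp (ι.hom.app V (T.P.obj.map f t)))⁻¹ =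
                 G.obj.map f (GSheaf.toGrp (ι.hom.app U t))⁻¹
               rw [map_inv, iota_nat ι] }⟩, fun U a t => ?_⟩
  show (GSheaf.toGrp (ι.hom.app U (T.smul a t)))⁻¹ = u.hom.app U a * (GSheaf.toGrp (ι.hom.app U t))⁻¹
  rw [he, mul_inv_rev, inv_inv]

/-- The class is trivial iff the section lifts. -/
theorem cl_eq_one_iff {T : Torsor F} (hT : GSheaf.IsFibreOver u π c T.toGSheaf) :
    T.cl = 1 ↔ ∃ g : (GSheaf.uSh G).obj.sections, ∀ U, π.hom.hom.app U (g.1 U) = c.1 U := by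
  constructor
  · intro h
    have h' := Quot.eqvGen_exact (show Quot.mk _ T = Quot.mk _ (trivialTorsor F) from h)
    have eqv : _root_.Equivalence (fun P Q : Torsor F => Nonempty (P.toGSheaf ≅ Q.toGSheaf)) :=
      ⟨fun _ => ⟨Iso.refl _⟩, fun ⟨e⟩ => ⟨e.symm⟩, fun ⟨e⟩ ⟨e'⟩ => ⟨e ≪≫ e'⟩⟩
    obtain ⟨e⟩ := eqv.eqvGen_iff.1 h'
    obtain ⟨ι, -, him, -⟩ := hT
    let s : ∀ U : Cᵒᵖ, T.P.obj.obj U := fun U => e.inv.hom.hom.app U (GSheaf.ofGrp (1 : F.obj.obj U))
    refine ⟨⟨fun U => ι.hom.app U (s U), fun {U V} f => ?_⟩, fun U => (him U _).1 ⟨s U, rfl⟩⟩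
    refine (iota_nat ι f (s U)).trans (congrArg (fun x => GSheaf.toGrp (ι.hom.app V x)) ?_)
    refine (NatTrans.naturality_apply e.inv.hom.hom f _).symm.trans
      (congrArg (fun x => e.inv.hom.hom.app V x) ?_)
    exact map_one (F.obj.map f).hom
  · rintro ⟨g, hg⟩
    obtain ⟨ι, hi, him, he⟩ := hT
    choose s hs using fun U => (him U (GSheaf.toGrp (g.1 U))).2 (hg U)
    have snat : ∀ {U V : Cᵒᵖ} (f : U ⟶ V), T.P.obj.map f (s U) = s V := fun {U V} f => hi V (by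
      show GSheaf.toGrp _ = GSheaf.toGrp _
      rw [← iota_nat ι, hs, hs]
      exact g.2 f)
    refine (Quot.sound ⟨isoOfHom (GSheaf.isTorsor_trivial F) T.isTorsor.1
      (homMk (fun U a => T.smul (GSheaf.toGrp a) (s U)) (fun {U V} f a => ?_) fun {U} a b => ?_)⟩).symm
    · rw [T.map_smul, snat]; rfl
    · exact (T.mul_smul a _ _)

end Groth.Agent.NATorsor.Fibre
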