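import Mathlib.CategoryTheory.Sites.Point.Basic
import Mathlib.Algebra.Category.Grp.Basic

/-!
# The group of germs of a presheaf of groups at a point of a site
-/

set_option autoImplicit false

universe w' w v u

open CategoryTheory Opposite

namespace Groth.Agent.NATorsor.PointGerm

variable {C : Type u} [Category.{v} C] {J : GrothendieckTopology C} (Φ : GrothendieckTopology.Point.{w'} J)
  (F : Cᵒᵖ ⥤ GrpCat.{w})

/-- Representatives of germs. -/
def Rep : Type (max u w' w) := Σ e : Φ.fiber.Elements, F.obj (op e.1)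

variable {Φ F}

/-- Restriction along a morphism of elements. -/
def res {e e' : Φ.fiber.Elements} (h : e' ⟶ e) (a : F.obj (op e.1)) : F.obj (op e'.1) := F.map h.1.op a

theorem res_res {e e' e'' : Φ.fiber.Elements} (h : e' ⟶ e) (h' : e'' ⟶ e') (a : F.obj (op e.1)) :
    res h' (res h a) = res (h' ≫ h) a := by
  show F.map h'.1.op (F.map h.1.op a) = F.map (h'.1 ≫ h.1).op a
  simp

theorem res_mul {e e' : Φ.fiber.Elements} (h : e' ⟶ e) (a b : F.obj (op e.1)) :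
    res h (a * b) = res h a * res h b := map_mul _ a b

variable (Φ F) in
/-- Two representatives have the same germ. -/
def setoid : Setoid (Rep Φ F) where
  r a b := ∃ (e : Φ.fiber.Elements) (f : e ⟶ a.1) (g : e ⟶ b.1), res f a.2 = res g b.2
  iseqv := by
    refine ⟨fun a => ⟨a.1, 𝟙 _, 𝟙 _, rfl⟩, fun ⟨e, f, g, h⟩ => ⟨e, g, f, h.symm⟩, ?_⟩
    rintro a b c ⟨e₁, f₁, g₁, h₁⟩ ⟨e₂, f₂, g₂, h₂⟩
    obtain ⟨e, p, q, hpq⟩ := IsCofiltered.cospan g₁ f₂
    exact ⟨e, p ≫ f₁, q ≫ g₂, by rw [← res_res, h₁, res_res, hpq, ← res_res, h₂, res_res]⟩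

variable (Φ F) in
/-- The type of germs. -/
def Germ : Type (max u w' w) := Quotient (setoid Φ F)

variable (Φ F) in
/-- The germ of a section at an element of the fibre. -/
def mk (e : Φ.fiber.Elements) (a : F.obj (op e.1)) : Germ Φ F := Quotient.mk _ ⟨e, a⟩

theorem mk_res {e e' : Φ.fiber.Elements} (h : e' ⟶ e) (a : F.obj (op e.1)) :
    mk Φ F e' (res h a) = mk Φ F e a :=
  Quotient.sound ⟨e', 𝟙 _, h, by rw [res_res, Category.id_comp]⟩

theorem mk_eq {e e' : Φ.fiber.Elements} {a : F.obj (op e.1)} {b : F.obj (op e'.1)} :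
    mk Φ F e a = mk Φ F e' b ↔
      ∃ (d : Φ.fiber.Elements) (f : d ⟶ e) (g : d ⟶ e'), res f a = res g b :=
  Quotient.eq (r := setoid Φ F)

theorem exists_rep (x : Germ Φ F) : ∃ e a, mk Φ F e a = x :=
  Quotient.inductionOn x fun r => ⟨r.1, r.2, rfl⟩

theorem exists_rep₂ (x y : Germ Φ F) : ∃ e a b, mk Φ F e a = x ∧ mk Φ F e b = y := by
  obtain ⟨e₁, a, rfl⟩ := exists_rep x
  obtain ⟨e₂, b, rfl⟩ := exists_rep y
  exact ⟨_, _, _, mk_res (IsCofiltered.minToLeft e₁ e₂) a, mk_res (IsCofiltered.minToRight e₁ e₂) b⟩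

theorem exists_rep₃ (x y z : Germ Φ F) :
    ∃ e a b c, mk Φ F e a = x ∧ mk Φ F e b = y ∧ mk Φ F e c = z := by
  obtain ⟨e₁, a, b, rfl, rfl⟩ := exists_rep₂ x y
  obtain ⟨e₂, c, rfl⟩ := exists_rep z
  exact ⟨_, _, _, _, mk_res (IsCofiltered.minToLeft e₁ e₂) a, mk_res (IsCofiltered.minToLeft e₁ e₂) b,
    mk_res (IsCofiltered.minToRight e₁ e₂) c⟩

theorem mk_mul_congr {e e' : Φ.fiber.Elements} {a b : F.obj (op e.1)} {a' b' : F.obj (op e'.1)}
    (ha : mk Φ F e a = mk Φ F e' a') (hb : mk Φ F e b = mk Φ F e' b') :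
    mk Φ F e (a * b) = mk Φ F e' (a' * b') := by
  obtain ⟨d₁, f₁, g₁, h₁⟩ := mk_eq.1 ha
  obtain ⟨d₂, f₂, g₂, h₂⟩ := mk_eq.1 hb
  obtain ⟨d, p, q, hpq⟩ := IsCofiltered.cospan f₁ f₂
  let k := IsCofiltered.eqHom (p ≫ g₁) (q ≫ g₂)
  have hk : k ≫ p ≫ g₁ = k ≫ q ≫ g₂ := IsCofiltered.eq_condition _ _
  refine mk_eq.2 ⟨_, k ≫ p ≫ f₁, k ≫ p ≫ g₁, ?_⟩
  rw [res_mul, res_mul]
  congr 1
  · rw [← Category.assoc, ← res_res, h₁, res_res, Category.assoc]
  · rw [hpq, hk, ← Category.assoc k q f₂, ← res_res f₂, h₂, res_res, Category.assoc]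

noncomputable instance : One (Germ Φ F) := ⟨mk Φ F IsCofiltered.nonempty.some 1⟩

theorem one_eq (e : Φ.fiber.Elements) : (1 : Germ Φ F) = mk Φ F e 1 :=
  mk_eq.2 ⟨_, IsCofiltered.minToLeft _ e, IsCofiltered.minToRight _ e, by simp [res]⟩

noncomputable instance : Mul (Germ Φ F) :=
  ⟨fun x y => mk Φ F (exists_rep₂ x y).choose
    ((exists_rep₂ x y).choose_spec.choose * (exists_rep₂ x y).choose_spec.choose_spec.choose)⟩

theorem mk_mul (e : Φ.fiber.Elements) (a b : F.obj (op e.1)) :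
    mk Φ F e a * mk Φ F e b = mk Φ F e (a * b) :=
  mk_mul_congr (exists_rep₂ (mk Φ F e a) (mk Φ F e b)).choose_spec.choose_spec.choose_spec.1
    (exists_rep₂ (mk Φ F e a) (mk Φ F e b)).choose_spec.choose_spec.choose_spec.2

noncomputable instance : Inv (Germ Φ F) :=
  ⟨fun x => mk Φ F (exists_rep x).choose (exists_rep x).choose_spec.choose⁻¹⟩

theorem mk_inv (e : Φ.fiber.Elements) (a : F.obj (op e.1)) : (mk Φ F e a)⁻¹ = mk Φ F e a⁻¹ := by
  obtain ⟨d, f, g, h⟩ := mk_eq.1 (exists_rep (mk Φ F e a)).choose_spec.choose_spec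
  refine mk_eq.2 ⟨d, f, g, ?_⟩
  simp only [res, map_inv]
  exact congrArg (·⁻¹) h

noncomputable instance : Group (Germ Φ F) where
  mul_assoc x y z := by
    obtain ⟨e, a, b, c, rfl, rfl, rfl⟩ := exists_rep₃ x y z
    rw [mk_mul, mk_mul, mk_mul, mk_mul, mul_assoc]
  one_mul x := by
    obtain ⟨e, a, rfl⟩ := exists_rep x
    rw [one_eq e, mk_mul, one_mul]
  mul_one x := by
    obtain ⟨e, a, rfl⟩ := exists_rep x
    rw [one_eq e, mk_mul, mul_one]
  inv_mul_cancel x := by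
    obtain ⟨e, a, rfl⟩ := exists_rep x
    rw [mk_inv, mk_mul, inv_mul_cancel, ← one_eq]

variable (Φ F) in
/-- Taking the germ at an element of the fibre, as a homomorphism. -/
noncomputable def germHom (e : Φ.fiber.Elements) : F.obj (op e.1) →* Germ Φ F where
  toFun := mk Φ F e
  map_one' := (one_eq e).symm
  map_mul' a b := (mk_mul e a b).symm

theorem germHom_map {U V : C} (f : V ⟶ U) (y : Φ.fiber.obj V) (a : F.obj (op U)) :
    germHom Φ F ⟨V, y⟩ (F.map f.op a) = germHom Φ F ⟨U, Φ.fiber.map f y⟩ a :=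
  mk_res (CategoryOfElements.homMk ⟨V, y⟩ ⟨U, Φ.fiber.map f y⟩ f rfl) a

theorem exists_of_germHom_eq {U : C} (x : Φ.fiber.obj U) {a b : F.obj (op U)}
    (h : germHom Φ F ⟨U, x⟩ a = germHom Φ F ⟨U, x⟩ b) :
    ∃ (V : C) (f : V ⟶ U) (y : Φ.fiber.obj V), Φ.fiber.map f y = x ∧ F.map f.op a = F.map f.op b := by
  obtain ⟨d, f, g, hfg⟩ := mk_eq.1 (show mk Φ F ⟨U, x⟩ a = mk Φ F ⟨U, x⟩ b from h)
  refine ⟨_, (IsCofiltered.eqHom f g ≫ f).1, (IsCofiltered.eq f g).2, (IsCofiltered.eqHom f g ≫ f).2, ?_⟩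
  show res (IsCofiltered.eqHom f g ≫ f) a = res (IsCofiltered.eqHom f g ≫ f) b
  exact (res_res f (IsCofiltered.eqHom f g) a).symm.trans ((congrArg (res (IsCofiltered.eqHom f g)) hfg).trans
    ((res_res g (IsCofiltered.eqHom f g) b).trans
      (congrArg (fun m => res m b) (IsCofiltered.eq_condition f g).symm)))

end Groth.Agent.NATorsor.PointGerm
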