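import Groth.Agent.NATorsor.Basic
import Groth.Agent.NATorsor.PointGerm
import Mathlib.CategoryTheory.Sites.Over

/-!
# Sheaves of functions on the fibres of a family of points: all their torsors are trivial
-/

set_option autoImplicit false

universe w' w v u

open CategoryTheory Opposite NonAbH1 Groth.Agent.NATorsor

namespace Groth.Agent.NATorsor.Godement

variable {C : Type u} [Category.{v} C] {J : GrothendieckTopology C} {ι : Type w'}
  (Φ : ι → GrothendieckTopology.Point.{w'} J) (K : ι → GrpCat.{max w w'})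

/-- `V ↦ ∏ᵢ (fibre of V at the i-th point → Kᵢ)`. -/
def presheaf : Cᵒᵖ ⥤ GrpCat.{max w w'} where
  obj V := GrpCat.of (∀ i, (Φ i).fiber.obj V.unop → K i)
  map {V W} f := GrpCat.ofHom
    { toFun := fun g i y => g i ((Φ i).fiber.map f.unop y)
      map_one' := rfl
      map_mul' := fun _ _ => rfl }
  map_id V := GrpCat.hom_ext (MonoidHom.ext fun g => by funext i y; simp)
  map_comp f g := GrpCat.hom_ext (MonoidHom.ext fun a => by funext i y; simp)

@[simp] theorem presheaf_map_apply {V W : C} (f : W ⟶ V) (g : (presheaf Φ K).obj (op V)) (i : ι)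
    (y : (Φ i).fiber.obj W) : ((presheaf Φ K).map f.op g) i y = g i ((Φ i).fiber.map f y) := rfl

theorem isSheaf : Presheaf.IsSheaf J (presheaf Φ K) := by
  intro E V S hS x hx
  let xv : ∀ {W : C} (g : W ⟶ V) (_ : S g), E ⟶ (presheaf Φ K).obj (op W) := fun g h => x g h
  have key : ∀ (e : E) (i : ι) (y : (Φ i).fiber.obj V) {W₁ W₂ : C} (f₁ : W₁ ⟶ V) (h₁ : S f₁)
      (z₁ : (Φ i).fiber.obj W₁) (f₂ : W₂ ⟶ V) (h₂ : S f₂) (z₂ : (Φ i).fiber.obj W₂),
      (Φ i).fiber.map f₁ z₁ = y → (Φ i).fiber.map f₂ z₂ = y → xv f₁ h₁ e i z₁ = xv f₂ h₂ e i z₂ := by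
    intro e i y W₁ W₂ f₁ h₁ z₁ f₂ h₂ z₂ e₁ e₂
    obtain ⟨d, p, q, hpq⟩ := IsCofiltered.cospan
      (CategoryOfElements.homMk (F := (Φ i).fiber) ⟨W₁, z₁⟩ ⟨V, y⟩ f₁ e₁)
      (CategoryOfElements.homMk (F := (Φ i).fiber) ⟨W₂, z₂⟩ ⟨V, y⟩ f₂ e₂)
    have h : (presheaf Φ K).map p.1.op (xv f₁ h₁ e) = (presheaf Φ K).map q.1.op (xv f₂ h₂ e) :=
      congrArg (fun k : E ⟶ (presheaf Φ K).obj (op d.1) => k e)
        (hx p.1 q.1 h₁ h₂ (congrArg Subtype.val hpq))
    have := congrFun (congrFun h i) d.2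
    have hp : (Φ i).fiber.map p.1 d.2 = z₁ := p.2
    have hq : (Φ i).fiber.map q.1 d.2 = z₂ := q.2
    simp only [presheaf_map_apply, hp, hq] at this
    exact this
  choose W f hf z hz using fun (i : ι) (y : (Φ i).fiber.obj V) => (Φ i).jointly_surjective S hS y
  let t : E → (presheaf Φ K).obj (op V) := fun e i y => xv (f i y) (hf i y) e i (z i y)
  refine ⟨GrpCat.ofHom
    { toFun := t
      map_one' := by
        funext i y
        show xv (f i y) (hf i y) 1 i (z i y) = 1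
        rw [map_one]; rfl
      map_mul' := fun a b => by
        funext i y
        show xv (f i y) (hf i y) (a * b) i (z i y) = _
        rw [map_mul]; rfl }, fun T φ h => ?_, fun t' ht' => ?_⟩
  · refine GrpCat.hom_ext (MonoidHom.ext fun e => ?_)
    funext i y
    show xv (f i _) (hf i _) e i (z i _) = xv φ h e i y
    exact key e i _ _ _ _ _ _ _ (hz i _) rfl
  · let tv : E ⟶ (presheaf Φ K).obj (op V) := t'
    show tv = _
    refine GrpCat.hom_ext (MonoidHom.ext fun e => ?_)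
    funext i y
    have h := congrArg (fun k : E ⟶ (presheaf Φ K).obj (op (W i y)) => k e i (z i y))
      (ht' (f i y) (hf i y))
    show tv e i y = xv (f i y) (hf i y) e i (z i y)
    rw [← h]
    show tv e i y = tv e i ((Φ i).fiber.map (f i y) (z i y))
    rw [hz]

/-- The sheaf `V ↦ ∏ᵢ (fibre of V at the i-th point → Kᵢ)`. -/
def sheaf : Sheaf J GrpCat.{max w w'} := ⟨presheaf Φ K, isSheaf Φ K⟩

variable {Φ K}

/-- Every torsor under the restriction of `sheaf Φ K` has a global section. -/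
theorem hasSection {U : C} (P : Torsor ((sheaf Φ K).over U)) : P.HasSection := by
  have hP := P.isTorsor.1
  obtain ⟨S, hS, hne⟩ := P.isTorsor.2 (Over.mk (𝟙 U))
  rw [GrothendieckTopology.mem_over_iff] at hS
  have lift : ∀ (i : ι) (x : (Φ i).fiber.obj U), ∃ (V : Over U) (v : (Φ i).fiber.obj V.left),
      (Φ i).fiber.map V.hom v = x ∧ Nonempty (P.P.obj.obj (op V)) := by
    intro i x
    obtain ⟨V₀, f₀, h₀, v₀, hv⟩ := (Φ i).jointly_surjective _ hS x
    rw [Sieve.overEquiv_iff] at h₀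
    exact ⟨_, v₀, (congrArg (fun m => (Φ i).fiber.map m v₀) (Category.comp_id f₀)).trans hv, hne _ h₀⟩
  choose V₀ v₀ hv₀ hne₀ using lift
  let p₀ := fun (i : ι) (x : (Φ i).fiber.obj U) => Classical.choice (hne₀ i x)
  let dval : ∀ (i : ι) {Z : Over U}, P.P.obj.obj (op Z) → P.P.obj.obj (op Z) → (Φ i).fiber.obj Z.left → K i :=
    fun i Z p q z => (diff hP p q : ∀ i, (Φ i).fiber.obj Z.left → K i) i z
  let Canon : ∀ (W : Over U), P.P.obj.obj (op W) → Prop := fun W p =>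
    ∀ (i : ι) (x : (Φ i).fiber.obj U) (Z : Over U) (a : Z ⟶ W) (b : Z ⟶ V₀ i x)
      (z : (Φ i).fiber.obj Z.left), (Φ i).fiber.map b.left z = v₀ i x →
        dval i (P.P.obj.map a.op p) (P.P.obj.map b.op (p₀ i x)) z = 1
  have exZ : ∀ (W : Over U) (i : ι) (v : (Φ i).fiber.obj W.left), ∃ (x : (Φ i).fiber.obj U) (Z : Over U)
      (a : Z ⟶ W) (b : Z ⟶ V₀ i x) (z : (Φ i).fiber.obj Z.left),
      (Φ i).fiber.map a.left z = v ∧ (Φ i).fiber.map b.left z = v₀ i x := by
    intro W i v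
    refine ⟨(Φ i).fiber.map W.hom v, ?_⟩
    generalize hx : (Φ i).fiber.map W.hom v = x
    obtain ⟨d, p, q, hpq⟩ := IsCofiltered.cospan
      (CategoryOfElements.homMk (F := (Φ i).fiber) ⟨W.left, v⟩ ⟨U, x⟩ W.hom hx)
      (CategoryOfElements.homMk (F := (Φ i).fiber) ⟨(V₀ i x).left, v₀ i x⟩ ⟨U, x⟩ (V₀ i x).hom (hv₀ i x))
    exact ⟨Over.mk (p.1 ≫ W.hom), Over.homMk p.1 rfl,
      Over.homMk q.1 (congrArg Subtype.val hpq).symm, d.2, p.2, q.2⟩
  have refine_ : ∀ (W : Over U) (p : P.P.obj.obj (op W)) (i : ι) (x x' : (Φ i).fiber.obj U) (Z Z' : Over U)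
      (a : Z ⟶ W) (b : Z ⟶ V₀ i x) (z : (Φ i).fiber.obj Z.left)
      (a' : Z' ⟶ W) (b' : Z' ⟶ V₀ i x') (z' : (Φ i).fiber.obj Z'.left),
      (Φ i).fiber.map a.left z = (Φ i).fiber.map a'.left z' →
      (Φ i).fiber.map b.left z = v₀ i x → (Φ i).fiber.map b'.left z' = v₀ i x' →
      dval i (P.P.obj.map a.op p) (P.P.obj.map b.op (p₀ i x)) z =
        dval i (P.P.obj.map a'.op p) (P.P.obj.map b'.op (p₀ i x')) z' := by
    intro W p i x x' Z Z' a b z a' b' z' ha hb hb'
    have xeq : x = x' := by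
      have e₁ : (Φ i).fiber.map W.hom ((Φ i).fiber.map a.left z) = x := by
        rw [← hv₀ i x, ← hb, ← FunctorToTypes.map_comp_apply, ← FunctorToTypes.map_comp_apply, Over.w, Over.w]
      have e₂ : (Φ i).fiber.map W.hom ((Φ i).fiber.map a'.left z') = x' := by
        rw [← hv₀ i x', ← hb', ← FunctorToTypes.map_comp_apply, ← FunctorToTypes.map_comp_apply, Over.w, Over.w]
      rw [← e₁, ha, e₂]
    subst xeq
    let eZ : (Φ i).fiber.Elements := ⟨Z.left, z⟩
    let eZ' : (Φ i).fiber.Elements := ⟨Z'.left, z'⟩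
    let eW : (Φ i).fiber.Elements := ⟨W.left, (Φ i).fiber.map a.left z⟩
    let eV : (Φ i).fiber.Elements := ⟨(V₀ i x).left, v₀ i x⟩
    let A : eZ ⟶ eW := ⟨a.left, rfl⟩
    let A' : eZ' ⟶ eW := ⟨a'.left, ha.symm⟩
    let B : eZ ⟶ eV := ⟨b.left, hb⟩
    let B' : eZ' ⟶ eV := ⟨b'.left, hb'⟩
    obtain ⟨d, p', q', hpq⟩ := IsCofiltered.cospan A A'
    let k := IsCofiltered.eqHom (p' ≫ B) (q' ≫ B')
    have hk : k ≫ p' ≫ B = k ≫ q' ≫ B' := IsCofiltered.eq_condition _ _
    let Z'' : Over U := Over.mk ((k.1 ≫ p'.1) ≫ Z.hom)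
    have hA : (k.1 ≫ p'.1) ≫ a.left = (k.1 ≫ q'.1) ≫ a'.left := by
      rw [Category.assoc, Category.assoc]
      exact congrArg (fun m => k.1 ≫ m) (congrArg Subtype.val hpq)
    have hB : (k.1 ≫ p'.1) ≫ b.left = (k.1 ≫ q'.1) ≫ b'.left := by
      rw [Category.assoc, Category.assoc]
      exact congrArg Subtype.val hk
    let r : Z'' ⟶ Z := Over.homMk (k.1 ≫ p'.1) rfl
    let r' : Z'' ⟶ Z' := Over.homMk (k.1 ≫ q'.1) (by
      show (k.1 ≫ q'.1) ≫ Z'.hom = (k.1 ≫ p'.1) ≫ Z.hom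
      rw [← Over.w a', ← Over.w a, ← Category.assoc, ← hA, Category.assoc])
    have hra : r ≫ a = r' ≫ a' := Over.OverMorphism.ext hA
    have hrb : r ≫ b = r' ≫ b' := Over.OverMorphism.ext hB
    have h1 := map_diff hP r.op (P.P.obj.map a.op p) (P.P.obj.map b.op (p₀ i x))
    have h2 := map_diff hP r'.op (P.P.obj.map a'.op p) (P.P.obj.map b'.op (p₀ i x))
    rw [map_map, map_map] at h1 h2
    rw [← hra, ← hrb, ← h1] at h2
    have h3 := congrFun (congrFun h2 i) (IsCofiltered.eq (p' ≫ B) (q' ≫ B')).2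
    have hz : (Φ i).fiber.map (k.1 ≫ p'.1) (IsCofiltered.eq (p' ≫ B) (q' ≫ B')).2 = z := (k ≫ p').2
    have hz' : (Φ i).fiber.map (k.1 ≫ q'.1) (IsCofiltered.eq (p' ≫ B) (q' ≫ B')).2 = z' := (k ≫ q').2
    change dval i _ _ ((Φ i).fiber.map (k.1 ≫ q'.1) _) = dval i _ _ ((Φ i).fiber.map (k.1 ≫ p'.1) _) at h3
    rw [hz, hz'] at h3
    exact h3.symm
  have dnat : ∀ {Z W : Over U} (r : Z ⟶ W) (g : ((sheaf Φ K).over U).obj.obj (op W)) (i : ι)
      (z : (Φ i).fiber.obj Z.left),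
      (((sheaf Φ K).over U).obj.map r.op g : ∀ i, (Φ i).fiber.obj Z.left → K i) i z =
        (g : ∀ i, (Φ i).fiber.obj W.left → K i) i ((Φ i).fiber.map r.left z) := fun _ _ _ _ => rfl
  have dsmul : ∀ {Z W : Over U} (r : Z ⟶ W) (g : ((sheaf Φ K).over U).obj.obj (op W))
      (p : P.P.obj.obj (op W)) (q : P.P.obj.obj (op Z)) (i : ι) (z : (Φ i).fiber.obj Z.left),
      dval i (P.P.obj.map r.op (P.smul g p)) q z *
        (g : ∀ i, (Φ i).fiber.obj W.left → K i) i ((Φ i).fiber.map r.left z) =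
      dval i (P.P.obj.map r.op p) q z := by
    intro Z W r g p q i z
    have h := diff_mul_diff hP (P.P.obj.map r.op p) (P.P.obj.map r.op (P.smul g p)) q
    rw [← map_diff hP r.op p, diff_eq hP (rfl : P.smul g p = _)] at h
    exact congrFun (congrFun h i) z
  have uniq : ∀ (W : Over U) (p p' : P.P.obj.obj (op W)), Canon W p → Canon W p' → p = p' := by
    intro W p p' hp hp'
    obtain ⟨g, rfl, -⟩ := hP _ p p'
    suffices hg : g = 1 by rw [hg, P.one_smul]
    funext i v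
    obtain ⟨x, Z, a, b, z, ha, hb⟩ := exZ W i v
    have h := dsmul a g p (P.P.obj.map b.op (p₀ i x)) i z
    rw [hp i x Z a b z hb, hp' i x Z a b z hb, one_mul, ha] at h
    exact h
  have exist : ∀ (W : Over U) (p : P.P.obj.obj (op W)), ∃ q, Canon W q := by
    intro W p
    choose x Z a b z ha hb using exZ W
    let g : ((sheaf Φ K).over U).obj.obj (op W) := fun i v =>
      dval i (P.P.obj.map (a i v).op p) (P.P.obj.map (b i v).op (p₀ i (x i v))) (z i v)
    refine ⟨P.smul g p, fun i x' Z' a' b' z' hb' => ?_⟩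
    have h := dsmul a' g p (P.P.obj.map b'.op (p₀ i x')) i z'
    rw [refine_ W p i x' _ Z' _ a' b' z' _ _ _ (ha i ((Φ i).fiber.map a'.left z')).symm hb' (hb i _)] at h
    exact mul_eq_right.1 h
  have canon_res : ∀ {W W' : Over U} (r : W' ⟶ W) (q : P.P.obj.obj (op W)),
      Canon W q → Canon W' (P.P.obj.map r.op q) := by
    intro W W' r q hq i x Z a b z hb
    have := hq i x Z (a ≫ r) b z hb
    rwa [map_map]
  let hex : ∀ W : Over U, ∃ q, Canon W q := fun W => by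
    obtain ⟨S', hS', hne'⟩ := P.isTorsor.2 W
    let qq : ∀ ⦃T : Over U⦄ (f : T ⟶ W), S' f → P.P.obj.obj (op T) := fun T f h =>
      (exist T (Classical.choice (hne' f h))).choose
    have hqq : ∀ ⦃T : Over U⦄ (f : T ⟶ W) (h : S' f), Canon T (qq f h) := fun T f h =>
      (exist T (Classical.choice (hne' f h))).choose_spec
    obtain ⟨q, hq, -⟩ := sec_glue P.toGSheaf hS' qq (fun T T' g f h =>
      uniq _ _ _ (canon_res g _ (hqq f h)) (hqq (g ≫ f) (S'.downward_closed h g)))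
    refine ⟨q, fun i x Z a b z hb => ?_⟩
    have hcov : (S'.pullback a) ∈ (J.over U) Z := (J.over U).pullback_stable a hS'
    rw [GrothendieckTopology.mem_over_iff] at hcov
    obtain ⟨T, f, hf, y, hy⟩ := (Φ i).jointly_surjective _ hcov z
    rw [Sieve.overEquiv_iff] at hf
    have h := hqq _ hf i x (Over.mk (f ≫ Z.hom)) (𝟙 _) (Over.homMk f rfl ≫ b) y
      (by show (Φ i).fiber.map (f ≫ b.left) y = _; rw [FunctorToTypes.map_comp_apply, hy, hb])
    rw [← hq _ hf, map_map, Category.id_comp, ← map_map P.toGSheaf a, ← map_map P.toGSheaf b] at h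
    have hn := map_diff hP (Over.homMk f rfl : Over.mk (f ≫ Z.hom) ⟶ Z).op (P.P.obj.map a.op q)
      (P.P.obj.map b.op (p₀ i x))
    have hn2 := congrFun (congrFun hn i) y
    rw [dnat] at hn2
    change dval i _ _ ((Φ i).fiber.map f y) = dval (Z := Over.mk (f ≫ Z.hom)) i _ _ y at hn2
    rw [hy, h] at hn2
    exact hn2
  refine ⟨fun W => (hex W.unop).choose, fun {W W'} f => ?_⟩
  exact uniq _ _ _ (canon_res f.unop _ (hex W.unop).choose_spec) (hex W'.unop).choose_spec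

/-- A torsor with a global section is trivial. -/
theorem isTrivial_of_hasSection {C' : Type u} [Category.{v} C'] {J' : GrothendieckTopology C'}
    [J'.HasSheafCompose (forget GrpCat.{w})] {G : Sheaf J' GrpCat.{w}} (P : Torsor G) (h : P.HasSection) :
    P.IsTrivial := by
  obtain ⟨s, hs⟩ := h
  refine ⟨isoOfHom (GSheaf.isTorsor_trivial G) P.isTorsor.1
    (homMk (fun U a => P.smul (GSheaf.toGrp a) (s U)) (fun {U V} f a => ?_) fun {U} a b => P.mul_smul a _ _)⟩
  rw [P.map_smul, hs]; rfl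

end Groth.Agent.NATorsor.Godement
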